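import Groth.Agent.Canon15.ExtPowPull
import Groth.Agent.Coherent.FreeSections
import Groth.Agent.TwistLib.TwistInv
import Groth.Prelude.Def_ExtPow2
import Mathlib.LinearAlgebra.Determinant

/-!
# Globally generated locally free modules with trivial determinant are free
-/

set_option autoImplicit false
set_option linter.style.haveILetI false
set_option linter.unusedSectionVars false
set_option backward.isDefEq.respectTransparency.types false

universe u

open CategoryTheory CategoryTheory.Limits AlgebraicGeometry TopologicalSpace Opposite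
open Groth.Agent.Coherent Groth.Agent.PicLib Groth.Agent.AmpleLib
open Groth.Agent.Canon15.ExtPull (Frame exists_frame)

namespace Groth.Agent.DetTriv22

variable {X : Scheme.{u}}

/-- The standard sections of a free module. -/
noncomputable def stdSec {N : ℕ} (j : Fin N) (V : X.Opens) : Γ(FlatMod.freeMod X N, V) :=
  unitVal (Sigma.ι (fun _ : Fin N => Coh.structureModule X) j) V

/-- The coordinate projections of a free module. -/
noncomputable def stdProj {N : ℕ} (j : Fin N) : FlatMod.freeMod X N ⟶ Coh.structureModule X :=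
  Sigma.desc fun i => if i = j then 𝟙 _ else 0

theorem stdProj_stdSec {N : ℕ} (i j : Fin N) (V : X.Opens) :
    (stdProj (X := X) i).app V (stdSec j V) = (if j = i then 1 else 0 : Γ(X, V)) := by
  have h : Sigma.ι (fun _ : Fin N => Coh.structureModule X) j ≫ stdProj i = if j = i then 𝟙 _ else 0 :=
    Sigma.ι_desc _ _
  refine (congrArg (fun ψ : Coh.structureModule X ⟶ Coh.structureModule X => ψ.app V (1 : Γ(X, V))) h).trans ?_
  split_ifs <;> rfl

theorem free_decomp {N : ℕ} {V : X.Opens} (a : Γ(FlatMod.freeMod X N, V)) :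
    a = ∑ j, (show Γ(X, V) from (stdProj j).app V a) • stdSec j V := by
  classical
  have h : (∑ j, stdProj (X := X) j ≫ Sigma.ι (fun _ : Fin N => Coh.structureModule X) j) =
      𝟙 (FlatMod.freeMod X N) := by
    refine Sigma.hom_ext _ _ fun i => ?_
    rw [Preadditive.comp_sum, Category.comp_id, Finset.sum_eq_single i]
    · rw [← Category.assoc, stdProj, Sigma.ι_desc, if_pos rfl, Category.id_comp]
    · intro j _ hj
      rw [← Category.assoc, stdProj, Sigma.ι_desc, if_neg (Ne.symm hj), zero_comp]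
    · exact fun h => absurd (Finset.mem_univ i) h
  refine (congrArg (fun ψ : FlatMod.freeMod X N ⟶ FlatMod.freeMod X N => ψ.app V a) h).symm.trans ?_
  rw [app_sum]
  exact Finset.sum_congr rfl fun j _ => app_unit (Sigma.ι (fun _ : Fin N => Coh.structureModule X) j) _

variable {r : ℕ} {E L : X.Modules}
  (φ : ∀ U : X.affineOpens, (L.val.obj (op U.1)) ≃ₗ[Γ(X, U.1)] ↥(⋀[Γ(X, U.1)]^r (E.val.obj (op U.1))))
  (hφ : ∀ (U V : X.affineOpens) (h : V.1 ≤ U.1) (e : Fin r → E.val.obj (op U.1)),
    L.val.map (homOfLE h).op ((φ U).symm (exteriorPower.ιMulti _ r e)) =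
      (φ V).symm (exteriorPower.ιMulti _ r (fun j => E.val.map (homOfLE h).op (e j))))

/-- The wedge of sections on an affine open. -/
noncomputable def wedgeOn (U : X.affineOpens) (e : Fin r → Γ(E, U.1)) : Γ(L, U.1) :=
  (φ U).symm (exteriorPower.ιMulti _ r (show Fin r → E.val.obj (op U.1) from e))

include hφ in
theorem wedgeOn_res (U V : X.affineOpens) (h : V.1 ≤ U.1) (e : Fin r → Γ(E, U.1)) :
    resM L h (wedgeOn φ U e) = wedgeOn φ V fun j => resM E h (e j) :=
  hφ U V h e

/-- The wedge in coordinates. -/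
theorem wedgeOn_eq_det (U : X.affineOpens) {b : ULift.{u} (Fin r) → Γ(E, U.1)} (hb : IsBasisOn E U.1 b)
    (e : Fin r → Γ(E, U.1)) :
    ∃ B : Module.Basis (Fin r) Γ(X, U.1) Γ(E, U.1), (∀ a, B a = b ⟨a⟩) ∧
      wedgeOn φ U e = B.det e • wedgeOn φ U (fun a => b ⟨a⟩) := by
  let f : (ULift.{u} (Fin r) → Γ(X, U.1)) →ₗ[Γ(X, U.1)] Γ(E, U.1) :=
    Fintype.linearCombination Γ(X, U.1) b
  have hf : Function.Bijective f := by
    have h := hb (le_refl U.1)
    have e1 : (fun c : ULift.{u} (Fin r) → Γ(X, U.1) => ∑ i, c i • resM E le_rfl (b i)) = f := by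
      funext c
      simp only [resM_self]
      exact (Fintype.linearCombination_apply _ _ _).symm
    rw [e1] at h
    exact h
  let B : Module.Basis (Fin r) Γ(X, U.1) Γ(E, U.1) :=
    ((Pi.basisFun Γ(X, U.1) (ULift.{u} (Fin r))).map (LinearEquiv.ofBijective f hf)).reindex Equiv.ulift
  have hB : ∀ a, B a = b ⟨a⟩ := fun a => by
    classical
    rw [Module.Basis.reindex_apply, Module.Basis.map_apply, Pi.basisFun_apply]
    show f (Pi.single (Equiv.ulift.symm a) 1) = _
    rw [Fintype.linearCombination_apply_single, one_smul]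
    rfl
  refine ⟨B, hB, ?_⟩
  let g : Γ(E, U.1) [⋀^Fin r]→ₗ[Γ(X, U.1)] Γ(L, U.1) :=
    (φ U).symm.toLinearMap.compAlternatingMap
      (show (E.val.obj (op U.1)) [⋀^Fin r]→ₗ[Γ(X, U.1)] _ from exteriorPower.ιMulti _ r)
  have hg : g = B.det.smulRight (g B) := B.ext_alternating fun v hv => by
    have hperm := g.map_perm B (Equiv.ofBijective v (Finite.injective_iff_bijective.1 hv))
    rw [AlternatingMap.smulRight_apply]
    show g (⇑B ∘ (Equiv.ofBijective v (Finite.injective_iff_bijective.1 hv))) = B.det (⇑B ∘ (Equiv.ofBijective v (Finite.injective_iff_bijective.1 hv))) • g B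
    rw [hperm, B.det.map_perm, B.det_self]
    simp
  show g e = B.det e • g fun a => b ⟨a⟩
  rw [show (fun a => b ⟨a⟩) = (B : Fin r → Γ(E, U.1)) from (funext hB).symm, hg, AlternatingMap.smulRight_apply,
    AlternatingMap.smulRight_apply, B.det_self, one_smul]

include hφ in
/-- The wedge of global sections. -/
theorem exists_wedge (σ : Fin r → Γ(E, (⊤ : X.Opens))) :
    ∃ δ : Γ(L, (⊤ : X.Opens)), ∀ U : X.affineOpens,
      resM L le_top δ = wedgeOn φ U fun j => resM E le_top (σ j) := by
  let F : TopCat.Sheaf Ab X := ⟨L.presheaf, L.isSheaf⟩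
  have hcov : (⊤ : X.Opens) ≤ ⨆ U : X.affineOpens, U.1 := (iSup_affineOpens_eq_top X).ge
  obtain ⟨δ, hδ, -⟩ := TopCat.Sheaf.existsUnique_gluing' F (fun U : X.affineOpens => U.1) ⊤
    (fun U => homOfLE le_top) hcov (fun U => wedgeOn φ U fun j => resM E le_top (σ j)) fun U V => by
      refine sec_ext L _ _ fun y hy => ?_
      obtain ⟨W, hW, hyW, hle⟩ := exists_isAffineOpen_mem_and_subset hy
      refine ⟨W, hle, hyW, ?_⟩
      show resM L hle (resM L (inf_le_left : U.1 ⊓ V.1 ≤ U.1) (wedgeOn φ U fun j => resM E le_top (σ j))) =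
        resM L hle (resM L (inf_le_right : U.1 ⊓ V.1 ≤ V.1) (wedgeOn φ V fun j => resM E le_top (σ j)))
      rw [resM_resM, resM_resM, wedgeOn_res φ hφ U ⟨W, hW⟩, wedgeOn_res φ hφ V ⟨W, hW⟩]
      simp only [resM_resM]
  exact ⟨δ, hδ⟩

variable (hE : FlatMod.IsFinLocFreeOfRank r E)
include hE hφ

/-- Some wedge of generating sections does not vanish. -/
theorem exists_wedge_ne_zero [Nonempty X] {N : ℕ} (ψ : FlatMod.freeMod X N ⟶ E) [Epi ψ] :
    ∃ (σ : Fin r → Γ(E, (⊤ : X.Opens))) (δ : Γ(L, (⊤ : X.Opens))), δ ≠ 0 ∧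
      ∀ U : X.affineOpens, resM L le_top δ = wedgeOn φ U fun j => resM E le_top (σ j) := by
  classical
  choose δ hδ using fun f : Fin r → Fin N => exists_wedge φ hφ fun j => unitVal (Sigma.ι (fun _ : Fin N => Coh.structureModule X) (f j) ≫ ψ) ⊤
  by_contra hcon
  have hzero : ∀ f, δ f = 0 := fun f => by
    by_contra hf
    exact hcon ⟨_, δ f, hf, hδ f⟩
  obtain ⟨x⟩ := (inferInstance : Nonempty X)
  obtain ⟨i, hxi, -⟩ := exists_frame hE x (Opens.mem_top x)
  choose W₀ hW₀ hxW₀ m hm using fun a : Fin r => exists_lift_of_epi ψ i.V.1 (i.b ⟨a⟩) x hxi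
  obtain ⟨W, hW, hxW, hle⟩ := exists_isAffineOpen_mem_and_subset
    (x := x) (U := i.V.1 ⊓ Finset.univ.inf W₀) ⟨hxi, by
      rw [SetLike.mem_coe]
      exact (Finset.inf_induction (p := fun O : X.Opens => x ∈ O) trivial
        (fun a ha b hb => ⟨ha, hb⟩) fun a _ => hxW₀ a)⟩
  have hWV : W ≤ i.V.1 := fun z hz => (hle hz).1
  have hWa : ∀ a, W ≤ W₀ a := fun a z hz => (Finset.inf_le (Finset.mem_univ a) : Finset.univ.inf W₀ ≤ W₀ a) (hle hz).2
  obtain ⟨B, hB, -⟩ := wedgeOn_eq_det φ ⟨W, hW⟩ (CAlgH3.LocFreeFactor.IsBasisOn.mono i.hb hWV) fun a => resM E hWV (i.b ⟨a⟩)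
  have hsum : ∀ a, (resM E hWV (i.b ⟨a⟩) : Γ(E, W)) = ∑ j : Fin N,
      (show Γ(X, W) from (stdProj j).app W (resM _ (hWa a) (m a))) •
        resM E (le_top : W ≤ ⊤) (unitVal (Sigma.ι (fun _ : Fin N => Coh.structureModule X) j ≫ ψ) ⊤) := fun a => by
    have h1 := congrArg (resM E (hWa a)) (hm a)
    rw [resM_resM] at h1
    rw [← h1, ← app_resM]
    conv_lhs => rw [free_decomp (resM _ (hWa a) (m a))]
    rw [map_sum]
    refine Finset.sum_congr rfl fun j _ => ?_
    rw [Scheme.Modules.Hom.app_smul, resM_unitVal]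
    rfl
  let g : Γ(E, W) [⋀^Fin r]→ₗ[Γ(X, W)] Γ(L, W) :=
    (φ ⟨W, hW⟩).symm.toLinearMap.compAlternatingMap
      (show (E.val.obj (op W)) [⋀^Fin r]→ₗ[Γ(X, W)] _ from exteriorPower.ιMulti _ r)
  have hgB : g B = 0 := by
    rw [show (B : Fin r → Γ(E, W)) = fun a => ∑ j : Fin N,
        (show Γ(X, W) from (stdProj j).app W (resM _ (hWa a) (m a))) •
          resM E (le_top : W ≤ ⊤) (unitVal (Sigma.ι (fun _ : Fin N => Coh.structureModule X) j ≫ ψ) ⊤)
      from funext fun a => (hB a).trans (hsum a)]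
    refine ((g.toMultilinearMap).map_sum _).trans (Finset.sum_eq_zero fun f _ => ?_)
    rw [MultilinearMap.map_smul_univ]
    have h2 := hδ f ⟨W, hW⟩
    rw [hzero f, map_zero] at h2
    exact (congrArg (_ • ·) h2.symm).trans (smul_zero _)
  have h3 : (exteriorPower.ιMulti Γ(X, W) r (show Fin r → E.val.obj (op W) from B)) = 0 :=
    (φ ⟨W, hW⟩).symm.injective (hgB.trans (map_zero _).symm)
  have h4 := congrArg (exteriorPower.alternatingMapLinearEquiv
    (show (E.val.obj (op W)) [⋀^Fin r]→ₗ[Γ(X, W)] Γ(X, W) from B.det)) h3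
  rw [exteriorPower.alternatingMapLinearEquiv_apply_ιMulti, map_zero] at h4
  haveI : Nonempty W := ⟨⟨x, hxW⟩⟩
  exact one_ne_zero (α := Γ(X, W)) (B.det_self.symm.trans h4)

/-- Globally generated with trivial determinant: free. -/
theorem nonempty_iso_free [IsIntegral X] (hF : IsField Γ(X, ⊤)) {N : ℕ} (ψ : FlatMod.freeMod X N ⟶ E) [Epi ψ]
    (eL : L ≅ Coh.structureModule X) : Nonempty (E ≅ FlatMod.freeMod X r) := by
  classical
  obtain ⟨σ, δ, hδ0, hδ⟩ := exists_wedge_ne_zero φ hφ hE ψ
  have hδgen : IsGen L ⊤ δ := by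
    have hc0 : (show Γ(X, ⊤) from eL.hom.app ⊤ δ) ≠ 0 := fun h => hδ0
      ((ConcreteCategory.bijective_of_isIso (eL.hom.app ⊤)).1 (h.trans (map_zero _).symm))
    obtain ⟨d, hd⟩ := hF.mul_inv_cancel hc0
    intro V hV
    have hu : IsUnit (X.presheaf.map (homOfLE hV).op (show Γ(X, ⊤) from eL.hom.app ⊤ δ)) :=
      (IsUnit.of_mul_eq_one d hd).map _
    have hb := ConcreteCategory.bijective_of_isIso (eL.hom.app V)
    refine (Function.Bijective.of_comp_iff' hb _).1 ?_
    have : (⇑(eL.hom.app V) ∘ fun s => s • resM L hV δ) = fun s : Γ(X, V) =>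
        s * X.presheaf.map (homOfLE hV).op (show Γ(X, ⊤) from eL.hom.app ⊤ δ) := funext fun s => by
      show eL.hom.app V (s • resM L hV δ) = _
      rw [Scheme.Modules.Hom.app_smul, app_resM]
      rfl
    rw [this]
    exact hu.unit.mulRight_bijective
  let Ψ : FlatMod.freeMod X r ⟶ E := Sigma.desc fun j => Coherent.unitDesc E (σ j)
  have hΨ : ∀ (V : X.Opens) (j : Fin r), Ψ.app V (stdSec j V) = resM E le_top (σ j) := fun V j => by
    refine Eq.trans ?_ (unitVal_unitDesc E (σ j) V)
    show unitVal (Sigma.ι (fun _ : Fin r => Coh.structureModule X) j ≫ Ψ) V = _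
    rw [Sigma.ι_desc]
  haveI : IsIso Ψ := by
    refine TwistLib.isIso_of_bijective_on Ψ (fun i : Frame E r => i.V.1)
      (fun x => let ⟨i, hi, _⟩ := exists_frame hE x (Opens.mem_top x); ⟨i, hi⟩) fun i V hV => ?_
    obtain ⟨B, hB, hdet⟩ := wedgeOn_eq_det φ i.V i.hb fun j => resM E le_top (σ j)
    rw [← hδ i.V] at hdet
    obtain ⟨c, hc⟩ := (hδgen i.V.1 le_top).2 (wedgeOn φ i.V fun a => i.b ⟨a⟩)
    dsimp only at hc
    rw [← hc, smul_smul] at hdet
    have h1 : B.det (fun j => resM E le_top (σ j)) * c = 1 :=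
      (hδgen i.V.1 le_top).1 (hdet.symm.trans (one_smul _ _).symm)
    have hu : IsUnit (B.det fun j => resM E (le_top : i.V.1 ≤ ⊤) (σ j)) := IsUnit.of_mul_eq_one c h1
    obtain ⟨hli, hsp⟩ := B.is_basis_iff_det.2 hu
    let B' := Module.Basis.mk hli hsp.ge
    have hB' : ∀ a, (B' a : Γ(E, i.V.1)) = resM E le_top (σ a) := fun a => Module.Basis.mk_apply ..
    have hbasis : IsBasisOn E i.V.1 fun a : ULift.{u} (Fin r) => resM E le_top (σ a.down) := by
      intro W hW
      have hb := i.hb hW
      -- change of basis by an invertible matrix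
      let P : Matrix (Fin r) (Fin r) Γ(X, i.V.1) := B.toMatrix B'
      let Q : Matrix (Fin r) (Fin r) Γ(X, i.V.1) := B'.toMatrix B
      have e1 : ∀ a, (resM E le_top (σ a) : Γ(E, W)) = ∑ l, PicLib.res hW (P l a) • resM E hW (i.b ⟨l⟩) := by
        intro a
        rw [← resM_resM E (le_top : i.V.1 ≤ ⊤) hW, ← hB' a, ← B.sum_repr (B' a), map_sum]
        exact Finset.sum_congr rfl fun l _ => by rw [resM_smul, hB l]; rfl
      have e2 : ∀ l, resM E hW (i.b ⟨l⟩) = ∑ a, PicLib.res hW (Q a l) • (resM E le_top (σ a) : Γ(E, W)) := by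
        intro l
        rw [← hB l, ← B'.sum_repr (B l), map_sum]
        exact Finset.sum_congr rfl fun a _ => by rw [resM_smul, hB' a, resM_resM]; rfl
      have hsimp : ∀ a : ULift.{u} (Fin r), resM E hW (resM E (le_top : i.V.1 ≤ ⊤) (σ a.down)) =
          resM E le_top (σ a.down) := fun a => resM_resM _ _ _ _
      simp only [hsimp]
      constructor
      · intro c c' h
        have hQP : ∀ l a, ∑ m, PicLib.res hW (Q l m) * PicLib.res hW (P m a) = if l = a then 1 else 0 := by
          intro l a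
          rw [show (∑ m, PicLib.res hW (Q l m) * PicLib.res hW (P m a)) =
            PicLib.res hW ((Q * P) l a) by simp only [Matrix.mul_apply, map_sum, map_mul],
            B'.toMatrix_mul_toMatrix_flip B, Matrix.one_apply, apply_ite (PicLib.res hW), map_one, map_zero]
        let T : (ULift.{u} (Fin r) → Γ(X, W)) → (ULift.{u} (Fin r) → Γ(X, W)) := fun c l =>
          ∑ a : Fin r, c ⟨a⟩ * PicLib.res hW (P l.down a)
        have hT : ∀ c : ULift.{u} (Fin r) → Γ(X, W), ∑ a : ULift.{u} (Fin r), c a • (resM E le_top (σ a.down) : Γ(E, W)) =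
            ∑ l : ULift.{u} (Fin r), T c l • resM E hW (i.b l) := fun c => by
          simp only [e1, Finset.smul_sum, smul_smul, T, Finset.sum_smul]
          rw [Finset.sum_comm]
          refine Fintype.sum_equiv Equiv.ulift.symm _ _ fun l => ?_
          exact Fintype.sum_equiv Equiv.ulift _ _ fun a => rfl
        dsimp only at h
        rw [hT, hT] at h
        have h' := hb.1 h
        funext a
        have key : ∀ c : ULift.{u} (Fin r) → Γ(X, W), c a = ∑ m, PicLib.res hW (Q a.down m) * T c ⟨m⟩ := fun c => by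
          simp only [T, Finset.mul_sum]
          rw [Finset.sum_comm, Finset.sum_eq_single a.down]
          · simp_rw [mul_left_comm _ (c _)]
            rw [← Finset.mul_sum, hQP, if_pos rfl, mul_one]
          · intro b _ hb'
            simp_rw [mul_left_comm _ (c _)]
            rw [← Finset.mul_sum, hQP, if_neg (Ne.symm hb'), mul_zero]
          · exact fun h => absurd (Finset.mem_univ _) h
        rw [key c, key c', h']
      · intro y
        obtain ⟨c, hc⟩ := hb.2 y
        refine ⟨fun a => ∑ l : ULift.{u} (Fin r), c l * PicLib.res hW (Q a.down l.down), ?_⟩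
        dsimp only at hc ⊢
        rw [← hc]
        simp only [Finset.sum_smul]
        rw [Finset.sum_comm]
        refine Finset.sum_congr rfl fun l _ => ?_
        rw [show i.b l = i.b ⟨l.down⟩ from rfl, e2, Finset.smul_sum]
        simp only [smul_smul]
        exact Fintype.sum_equiv Equiv.ulift _ _ fun a => rfl
    have happ : ∀ a, Ψ.app V a = ∑ j : ULift.{u} (Fin r), (show Γ(X, V) from (stdProj j.down).app V a) •
        resM E hV (resM E le_top (σ j.down)) := fun a => by
      conv_lhs => rw [free_decomp a]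
      rw [map_sum]
      refine (Fintype.sum_equiv Equiv.ulift _ _ fun j => ?_).symm
      rw [Scheme.Modules.Hom.app_smul, resM_resM]
      exact (congrArg (_ • ·) (hΨ V j.down)).symm
    refine ⟨fun a a' h => ?_, fun y => ?_⟩
    · rw [happ, happ] at h
      have h' := (hbasis hV).1 h
      rw [free_decomp a, free_decomp a']
      exact Finset.sum_congr rfl fun j _ => congrArg (· • stdSec j V) (congrFun h' ⟨j⟩)
    · obtain ⟨c, hc⟩ := (hbasis hV).2 y
      refine ⟨∑ j, c ⟨j⟩ • stdSec j V, ?_⟩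
      rw [map_sum]
      refine Eq.trans ?_ hc
      refine (Fintype.sum_equiv Equiv.ulift _ _ fun j => ?_).symm
      rw [Scheme.Modules.Hom.app_smul]
      exact (congrArg (_ • ·) ((hΨ V j.down).trans (resM_resM _ _ _ _).symm)).symm
  exact ⟨(asIso Ψ).symm⟩

end Groth.Agent.DetTriv22
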